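import Groth.Agent.EllLawLib.Law
import Groth.Agent.CurveBCLib.Twist

/-!
# Fibres over the spectrum of a field
-/

set_option autoImplicit false
set_option linter.style.haveILetI false
universe u

open CategoryTheory CategoryTheory.Limits AlgebraicGeometry TopologicalSpace Opposite

noncomputable section

namespace EllLawLib

variable {k : Type u} [Field k] {X : Scheme.{u}} (f : X ⟶ Spec (CommRingCat.of k))

theorem isIso_fromSpecResidueField (s : Spec (CommRingCat.of k)) :
    IsIso ((Spec (CommRingCat.of k)).fromSpecResidueField s) := by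
  haveI : Subsingleton ↥(Spec (CommRingCat.of k)) := inferInstanceAs (Subsingleton (PrimeSpectrum k))
  haveI : IsClosedImmersion ((Spec (CommRingCat.of k)).fromSpecResidueField s) := by
    refine isClosed_singleton_iff_isClosedImmersion.1 ?_
    rw [show ({s} : Set (Spec (CommRingCat.of k))) = Set.univ from
      Set.eq_univ_of_forall fun z => Subsingleton.elim z s]
    exact isClosed_univ
  haveI : Surjective ((Spec (CommRingCat.of k)).fromSpecResidueField s) :=
    ⟨fun z => ⟨IsLocalRing.closedPoint _, Subsingleton.elim _ _⟩⟩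
  exact isIso_of_isClosedImmersion_of_surjective _

theorem dim_fiber_spec (s : Spec (CommRingCat.of k)) :
    topologicalKrullDim ↥(f.fiber s) = topologicalKrullDim ↥X := by
  haveI := isIso_fromSpecResidueField s
  haveI : IsIso (f.fiberι s) := inferInstanceAs (IsIso (pullback.fst f _))
  exact (f.fiberι s).homeomorph.isHomeomorph.topologicalKrullDim_eq

theorem fiberRank_spec [IsProper f] (i : ℕ) (s : Spec (CommRingCat.of k)) :
    CohIII.fiberRank f (Coh.structureModule X) i s =
      @Module.finrank k (Coh.HH X (Coh.structureModule X) i) _ _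
        (letI : X.Over (Spec (CommRingCat.of k)) := ⟨f⟩; inferInstance) := by
  letI : X.Over (Spec (CommRingCat.of k)) := ⟨f⟩
  let K : Type u := (Spec (CommRingCat.of k)).residueField s
  letI : (f.fiber s).Over (Spec (CommRingCat.of K)) := ⟨f.fiberToSpecResidueField s⟩
  let φ : CommRingCat.of k ⟶ CommRingCat.of K :=
    Spec.preimage ((Spec (CommRingCat.of k)).fromSpecResidueField s)
  letI : Algebra k K := φ.hom.toAlgebra
  haveI : IsProper (X ↘ Spec (CommRingCat.of k)) := ‹IsProper f›
  haveI := CurvLib.isNoetherian k (X := X)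
  haveI : Coh.IsQCoh (Coh.structureModule X) := QCohLib.isQCoh_unit
  have hsq : IsPullback (f.fiberι s) ((f.fiber s) ↘ Spec (CommRingCat.of K)) (X ↘ Spec (CommRingCat.of k))
      (Spec.map (CommRingCat.ofHom (algebraMap k K))) := by
    have : Spec.map (CommRingCat.ofHom (algebraMap k K)) = (Spec (CommRingCat.of k)).fromSpecResidueField s :=
      Spec.map_preimage ((Spec (CommRingCat.of k)).fromSpecResidueField s)
    rw [this]
    exact IsPullback.of_hasPullback f _
  obtain ⟨e⟩ := RpushLib.nonempty_affBase_bc (A := k) (B := K) (g' := f.fiberι s)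
    (f' := (f.fiber s) ↘ Spec (CommRingCat.of K)) (f := X ↘ Spec (CommRingCat.of k)) hsq
    (Coh.structureModule X) i
  exact e.finrank_eq.symm.trans (Module.finrank_baseChange (R := K) (S := k) (M' := Coh.HH X (Coh.structureModule X) i))

theorem fibDeg_spec [IsProper f] {L : X.Modules} (hL : PicF.IsInvertible L) {d : ℤ}
    (hd : @Curv2.deg k _ X ⟨f⟩ L 1 = d) : FibDeg f L d := by
  intro s
  letI : X.Over (Spec (CommRingCat.of k)) := ⟨f⟩
  let K : Type u := (Spec (CommRingCat.of k)).residueField s
  letI : (f.fiber s).Over (Spec (CommRingCat.of K)) := ⟨f.fiberToSpecResidueField s⟩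
  let φ : CommRingCat.of k ⟶ CommRingCat.of K :=
    Spec.preimage ((Spec (CommRingCat.of k)).fromSpecResidueField s)
  letI : Algebra k K := φ.hom.toAlgebra
  haveI : IsProper (X ↘ Spec (CommRingCat.of k)) := ‹IsProper f›
  have hsq : IsPullback (f.fiberι s) ((f.fiber s) ↘ Spec (CommRingCat.of K)) (X ↘ Spec (CommRingCat.of k))
      (Spec.map (CommRingCat.ofHom (algebraMap k K))) := by
    have : Spec.map (CommRingCat.ofHom (algebraMap k K)) = (Spec (CommRingCat.of k)).fromSpecResidueField s :=
      Spec.map_preimage ((Spec (CommRingCat.of k)).fromSpecResidueField s)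
    rw [this]
    exact IsPullback.of_hasPullback f _
  exact (CurveBCLib.deg_sq (k := k) (K := K) hsq hL).trans hd

open CubeConsLib in
/-- Over a field a bundle of degree one is the bundle of a rational point. -/
theorem exists_point_field (hf : IsCurveFam f) {L : X.Modules} (hL : PicF.IsInvertible L)
    (hd : @Curv2.deg k _ X ⟨f⟩ L 1 = 1) :
    ∃ x : Spec (CommRingCat.of k) ⟶ X, x ≫ f = 𝟙 _ ∧ idCls x.ker * cl L = 1 := by
  haveI := hf.proper
  obtain ⟨x, N, hx, hN, e⟩ := exists_section hf hL (fibDeg_spec f hL hd)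
  haveI : Subsingleton ↥(Spec (CommRingCat.of k)) := inferInstanceAs (Subsingleton (PrimeSpectrum k))
  have h1 : cl N = 1 := cl_eq_one_iff.2
    (CohCmpLib.nonempty_iso_structureModule_of_point ((CohCmpLib.invertible_iff_rank_one N).1 hN))
  exact ⟨x, hx, e.trans (by rw [h1, map_one])⟩

open CubeConsLib in
/-- A rational point is determined by its class. -/
theorem point_unique_field (hf : IsCurveFam f) {x y : Spec (CommRingCat.of k) ⟶ X} (hx : x ≫ f = 𝟙 _)
    (hy : y ≫ f = 𝟙 _) (h : idCls x.ker = idCls y.ker) : x = y := by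
  haveI := hf.proper
  haveI := hf.smooth
  haveI := hf.conn
  obtain ⟨L, hL, hL'⟩ := exists_inv_rep (IntMultLib.isInvertible_idealMod _ (hf.isEffCartier x hx))
  obtain ⟨e⟩ := cl_eq_iff.1 h
  have h1 : ClSub.IsInverseOf L (ClSub.idealMod x.ker) :=
    cl_eq_one_iff.1 ((cl_tensor _ _).trans ((mul_comm _ _).trans hL'))
  exact (SecDivLib.section_unique f hf.dim (fun s => (hf.genus s).ge) x y hx hy hL h1
    ⟨HilbPolyLib.congrRight L e.symm ≪≫ h1.some⟩).symm

end EllLawLib

end
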