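import Groth.Agent.EllLawLib.Cls

/-!
# Divisors of degree one on a curve are rational points
-/

set_option autoImplicit false
set_option linter.style.haveILetI false
set_option linter.unusedSectionVars false
set_option maxRecDepth 8000
universe u

open CategoryTheory CategoryTheory.Limits AlgebraicGeometry TopologicalSpace Opposite

noncomputable section

namespace EllLawLib

variable {X : Scheme.{u}}

/-- The inclusion of ideal modules. -/
theorem exists_idealIncl {I J : X.IdealSheafData} (h : I ≤ J) :
    ∃ φ : ClSub.idealMod I ⟶ ClSub.idealMod J, φ ≫ ClSub.idealModι J = ClSub.idealModι I := by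
  have h0 : ClSub.idealModι I ≫ ClSub.toSubscheme J = 0 := by
    refine Scheme.Modules.hom_ext _ _ fun V => ConcreteCategory.hom_ext _ _ fun a => ?_
    show (ClSub.toSubscheme J).app V ((ClSub.idealModι I).app V a) = 0
    have hI : (ClSub.toSubscheme I).app V ((ClSub.idealModι I).app V a) = 0 :=
      congr(Scheme.Modules.Hom.app $(show ClSub.idealModι I ≫ ClSub.toSubscheme I = 0 from kernel.condition _) V a)
    change (I.subschemeι.app V).hom ((ClSub.idealModι I).app V a) = 0 at hI
    show (J.subschemeι.app V).hom ((ClSub.idealModι I).app V a) = 0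
    rw [show J.subschemeι = Scheme.IdealSheafData.inclusion h ≫ I.subschemeι from
      (Scheme.IdealSheafData.inclusion_subschemeι ..).symm, Scheme.Hom.comp_app]
    show ((Scheme.IdealSheafData.inclusion h).app _).hom ((I.subschemeι.app V).hom _) = 0
    rw [hI, map_zero]
  exact ⟨kernel.lift _ _ h0, kernel.lift_ι _ _ _⟩

/-- Isomorphic inclusion gives equal ideals. -/
theorem eq_of_isIso_incl {I J : X.IdealSheafData} (h : I ≤ J) {φ : ClSub.idealMod I ⟶ ClSub.idealMod J}
    (hφ : φ ≫ ClSub.idealModι J = ClSub.idealModι I) [IsIso φ] : I = J := by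
  refine le_antisymm h fun U a ha => ?_
  obtain ⟨σ, hσ⟩ := IntMultLib.exists_section J U ha
  rw [← IntMultLib.toSubscheme_app_eq_zero_iff I U a, ← hσ]
  have e : (ClSub.idealModι J).app U.1 σ = (ClSub.idealModι I).app U.1 ((inv φ).app U.1 σ) := by
    have := congr(Scheme.Modules.Hom.app $(show ClSub.idealModι J = inv φ ≫ ClSub.idealModι I by
      rw [← hφ, IsIso.inv_hom_id_assoc]) U.1 σ)
    exact this
  rw [e]
  exact congr(Scheme.Modules.Hom.app $(show ClSub.idealModι I ≫ ClSub.toSubscheme I = 0 from kernel.condition _) U.1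
    ((inv φ).app U.1 σ))

variable {k : Type u} [Field k] [X.Over (Spec (CommRingCat.of k))]

/-- A point with residue field `k` is the image of a rational point. -/
theorem exists_rational_of_finrank_one {P : X}
    (h : letI : Algebra k (X.residueField P) := Curv2.resAlgebra k X P
      Module.finrank k (X.residueField P) = 1) :
    ∃ w : Spec (CommRingCat.of k) ⟶ X, w ≫ (X ↘ Spec (CommRingCat.of k)) = 𝟙 _ ∧
      w (IsLocalRing.closedPoint k) = P := by
  letI : Algebra k (X.residueField P) := Curv2.resAlgebra k X P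
  have hb : Function.Bijective (Curv2.resMap k X P) := by
    refine ⟨(Curv2.resMap k X P).injective, fun z => ?_⟩
    obtain ⟨c, hc⟩ := (finrank_eq_one_iff_of_nonzero' (1 : X.residueField P) one_ne_zero).1 h z
    refine ⟨c, ?_⟩
    rw [← hc, Algebra.smul_def, mul_one]
    rfl
  have hr : Spec.map (CommRingCat.ofHom (Curv2.resMap k X P)) =
      X.fromSpecResidueField P ≫ (X ↘ Spec (CommRingCat.of k)) := by
    have hc : CommRingCat.ofHom (Curv2.resMap k X P) =
        (Scheme.ΓSpecIso (CommRingCat.of k)).inv ≫ (X ↘ Spec (CommRingCat.of k)).appTop ≫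
          X.presheaf.germ ⊤ P trivial ≫ X.residue P := rfl
    rw [hc, Spec.map_comp, Spec.map_comp, Spec.map_comp]
    show _ = (Spec.map (X.residue P) ≫ X.fromSpecStalk P) ≫ (X ↘ Spec (CommRingCat.of k))
    simp only [Category.assoc]
    congr 1
    rw [← Scheme.fromSpecStalk_toSpecΓ_assoc, ← Scheme.toSpecΓ_naturality_assoc]
    simp [toSpecΓ_SpecMap_ΓSpecIso_inv]
  haveI : IsIso (CommRingCat.ofHom (Curv2.resMap k X P)) := (ConcreteCategory.isIso_iff_bijective _).2 hb
  refine ⟨Spec.map (inv (CommRingCat.ofHom (Curv2.resMap k X P))) ≫ X.fromSpecResidueField P, ?_, ?_⟩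
  · rw [Category.assoc, ← hr, ← Spec.map_comp, IsIso.hom_inv_id, Spec.map_id]
  · rw [Scheme.Hom.comp_apply]
    exact Scheme.fromSpecResidueField_apply _ _

variable [IsProper (X ↘ Spec (CommRingCat.of k))] [Smooth (X ↘ Spec (CommRingCat.of k))]
  [GeometricallyConnected (X ↘ Spec (CommRingCat.of k))]

/-- The divisor of a nonzero section of a module of degree one is a rational point. -/
theorem exists_point_of_deg_one (hdim : topologicalKrullDim X = 1) {L : X.Modules} (hL : PicF.IsInvertible L)
    (hd : Curv2.deg k X L 1 = 1) (σ : Coh.structureModule X ⟶ L) (hσ : σ ≠ 0) :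
    ∃ x : Spec (CommRingCat.of k) ⟶ X, x ≫ (X ↘ Spec (CommRingCat.of k)) = 𝟙 _ ∧
      PicF2.zeroScheme L σ = x.ker := by
  haveI := FibVALib.geometricallyIntegral_of_geometricallyConnected (X ↘ Spec (CommRingCat.of k))
  haveI : IsIntegral X := GeometricallyIntegral.isIntegral_of_subsingleton (X ↘ Spec (CommRingCat.of k))
  have hO := CurvLib.isInvertible_structureModule (X := X)
  haveI : Mono σ := CurvLib.mono_of_ne_zero hO hL hσ
  set I := PicF2.zeroScheme L σ with hIdef
  have hI : PicF.IsInvertible (ClSub.idealMod I) :=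
    IntMultLib.isInvertible_idealMod I (AmpleFinGenLib.isEffCartier_zeroScheme hL σ)
  have hdO : Curv2.deg k X (Coh.structureModule X) 1 = 0 := by simp [Curv2.deg]
  have hdI : Curv2.deg k X (ClSub.idealMod I) 1 = -1 := by
    obtain ⟨e⟩ := AmpleFinGenLib.idealMod_tensor_iso hL σ
    have h := GenusZeroLib.deg_tensor k hdim hI hL
    rw [CurvLib.deg_congr (k := k) e 1] at h
    omega
  obtain ⟨P, hPs, hP⟩ : ∃ P : X, P ∈ I.support ∧ IsClosed ({P} : Set X) := by
    have hne : (I.support : Set X).Nonempty := by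
      rw [Set.nonempty_iff_ne_empty]
      intro h0
      have hIt : I = ⊤ := (Scheme.IdealSheafData.support_eq_bot_iff (I := I)).1 (Closeds.ext h0)
      have htop : Curv2.deg k X (ClSub.idealMod (⊤ : X.IdealSheafData)) 1 = 0 := by
        haveI : IsIso (ClSub.idealModι (⊤ : X.IdealSheafData)) := by
          have hz : ClSub.toSubscheme (⊤ : X.IdealSheafData) = 0 := by
            refine Scheme.Modules.hom_ext _ _ fun V => ConcreteCategory.hom_ext _ _ fun a => ?_
            haveI : IsEmpty (⊤ : X.IdealSheafData).subscheme := inferInstance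
            haveI : Subsingleton Γ((⊤ : X.IdealSheafData).subscheme, (⊤ : X.IdealSheafData).subschemeι ⁻¹ᵁ V) :=
              inferInstance
            exact Subsingleton.elim (α := Γ((⊤ : X.IdealSheafData).subscheme, (⊤ : X.IdealSheafData).subschemeι ⁻¹ᵁ V)) _ _
          exact kernel.ι_of_zero hz
        rw [CurvLib.deg_congr (k := k) (asIso (ClSub.idealModι (⊤ : X.IdealSheafData))) 1, hdO]
      rw [hIt] at hdI
      omega
    haveI := CurvLib.isNoetherian k (X := X)
    haveI : CompactSpace X := inferInstance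
    obtain ⟨P, hP, hcl⟩ := I.support.isClosed.exists_closed_singleton hne
    exact ⟨P, hP, hcl⟩
  haveI : IsDiscreteValuationRing (X.presheaf.stalk P) := HurwitzLib.dvr_stalk_closed (k := k) hdim hP
  have hle : I ≤ GenusZeroLib.ptIdeal hP := by
    refine Scheme.IdealSheafData.le_support_iff_le_vanishingIdeal.1 ?_
    intro z hz
    rw [Set.mem_singleton_iff.1 hz]
    exact hPs
  obtain ⟨N, ⟨eN⟩, hN, hdN⟩ := GenusZeroLib.exists_idealMod_iso (k := k) hP hdim
  obtain ⟨φ, hφ⟩ := exists_idealIncl hle
  have hφ0 : φ ≫ eN.inv ≠ 0 := by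
    intro h0
    have h1 : φ = 0 := by
      rw [← Category.comp_id φ, ← eN.inv_hom_id, ← Category.assoc, h0, zero_comp]
    rw [h1, zero_comp] at hφ
    have hbot : IsZero (ClSub.idealMod I) := by
      haveI : Mono (ClSub.idealModι I) := inferInstanceAs (Mono (kernel.ι _))
      exact IsZero.of_mono_eq_zero _ hφ.symm
    obtain ⟨U, hU, ⟨e⟩⟩ := hI P
    have hz : IsZero (Coh.structureModule (U : Scheme.{u})) :=
      ((Scheme.Modules.restrictFunctor U.ι).map_isZero hbot).of_iso e.symm
    haveI : Nonempty (U : Scheme.{u}) := ⟨⟨P, hU⟩⟩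
    exact CohCmpLib.structureModule_id_ne_zero (X := (U : Scheme.{u})) (hz.eq_of_src _ _)
  have hle1 := CurvLib.euler_le (k := k) hI hN hdim hφ0
  letI : Algebra k (X.residueField P) := Curv2.resAlgebra k X P
  haveI : Module.Finite k (X.residueField P) := HurwitzLib.finite_residueField (k := k) hP
  have hpos : 0 < Module.finrank k (X.residueField P) := Module.finrank_pos
  simp only [Curv2.deg] at hdI hdN
  have hd1 : Module.finrank k (X.residueField P) = 1 := by omega
  haveI : IsIso (φ ≫ eN.inv) := CurvLib.isIso_of_euler_le (k := k) hI hN hdim hφ0 (by omega)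
  haveI : IsIso φ := IsIso.of_isIso_comp_right φ eN.inv
  obtain ⟨x, hx, hxP⟩ := exists_rational_of_finrank_one (k := k) hd1
  refine ⟨x, hx, ?_⟩
  rw [SecDivLib.ker_rational x hx]
  rw [eq_of_isIso_incl hle hφ]
  subst hxP
  rfl

end EllLawLib

end
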