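import Groth.Agent.CubeConsLib.IsoCls
import Groth.Agent.SecDivLib.Abel
import Groth.Agent.RelDualLib.Bundle

/-!
# Classes of the ideals of sections of a family of curves
-/

set_option autoImplicit false
set_option linter.style.haveILetI false
set_option linter.unusedSectionVars false
set_option maxRecDepth 8000
universe u

open CategoryTheory CategoryTheory.Limits AlgebraicGeometry TopologicalSpace Opposite

noncomputable section

namespace EllLawLib

open CubeConsLib

variable {X Y : Scheme.{u}}

/-- The class of the ideal module. -/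
def idCls (I : X.IdealSheafData) : IsoCls X := cl (ClSub.idealMod I)

theorem isUnit_cl {L : X.Modules} (hL : PicF.IsInvertible L) : IsUnit (cl L) := by
  obtain ⟨d, hd⟩ := exists_inverse hL
  exact IsUnit.of_mul_eq_one d hd

theorem isUnit_idCls {I : X.IdealSheafData} (hI : BlowUp.IsEffCartierIdeal I) : IsUnit (idCls I) :=
  isUnit_cl (IntMultLib.isInvertible_idealMod I hI)

/-- Every invertible class has an invertible representative of its inverse. -/
theorem exists_inv_rep {L : X.Modules} (hL : PicF.IsInvertible L) :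
    ∃ N : X.Modules, PicF.IsInvertible N ∧ cl L * cl N = 1 :=
  ⟨MiscFlat6.dual L, MiscFlat6.dual_isInvertible hL, cl_eq_one_iff.2 (MiscFlat6.nonempty_dualIso hL)⟩

/-- Pulling back the ideal of an effective Cartier divisor with Cartier inverse image. -/
theorem pull_idCls (g : Y ⟶ X) {I : X.IdealSheafData} (hI : BlowUp.IsEffCartierIdeal I)
    (hI' : BlowUp.IsEffCartierIdeal (I.comap g)) : pull g (idCls I) = idCls (I.comap g) := by
  obtain ⟨L, hL, hIL⟩ := exists_inv_rep (IntMultLib.isInvertible_idealMod I hI)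
  have hLI : ClSub.IsInverseOf L (ClSub.idealMod I) :=
    cl_eq_one_iff.1 ((cl_tensor _ _).trans ((mul_comm _ _).trans hIL))
  obtain ⟨σ, hσ⟩ := SecDivLib.exists_secHom hL hI hLI
  have hz := SecDivLib.zeroScheme_pbSec g hL σ
  rw [hσ] at hz
  have hL' := AmpleDevLib.isInvertible_pb g hL
  haveI := RelDualLib.mono_of_zeroScheme hL' hI' (SecDivLib.pbSec g σ) hz
  have e := AmpleFinGenLib.idealMod_tensor_iso hL' (SecDivLib.pbSec g σ)
  rw [hz] at e
  have h1 : idCls (I.comap g) * pull g (cl L) = 1 := (cl_tensor _ _).symm.trans (cl_eq_one_iff.2 e)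
  have h2 : pull g (idCls I) * pull g (cl L) = 1 := by
    rw [← map_mul]
    exact (congrArg _ hIL).trans (map_one _)
  exact ((isUnit_cl hL).map (pull g)).mul_left_injective (h2.trans h1.symm)

variable {C S : Scheme.{u}} (f : C ⟶ S)

theorem isClosedImmersion_sec [IsSeparated f] (x : S ⟶ C) (hx : x ≫ f = 𝟙 S) : IsClosedImmersion x := by
  haveI : IsClosedImmersion (x ≫ f) := by rw [hx]; infer_instance
  exact IsClosedImmersion.of_comp x f

/-- The hypotheses on a family of curves. -/
structure IsCurveFam : Prop where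
  proper : IsProper f
  smooth : Smooth f
  conn : GeometricallyConnected f
  dim : ∀ s : S, topologicalKrullDim ↥(f.fiber s) = 1
  genus : ∀ s : S, CohIII.fiberRank f (Coh.structureModule C) 1 s = 1

variable {f}

theorem IsCurveFam.of_isPullback (hf : IsCurveFam f) {C' S' : Scheme.{u}} {f' : C' ⟶ S'} {g' : C' ⟶ C}
    {g : S' ⟶ S} (H : IsPullback g' f' f g) : IsCurveFam f' := by
  haveI := hf.proper
  exact ⟨MorphismProperty.of_isPullback H hf.proper, MorphismProperty.of_isPullback H hf.smooth,
    MorphismProperty.of_isPullback H hf.conn,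
    fun t => (FibDimLib.topologicalKrullDim_fiber_baseChange H t).trans (hf.dim _),
    fun t => (SecDivLib.fiberRank_structure_bc H t 1).trans (hf.genus _)⟩

theorem IsCurveFam.baseChange (hf : IsCurveFam f) (T : Over S) : IsCurveFam (PicF.XTproj f T) :=
  hf.of_isPullback (IsPullback.of_hasPullback f T.hom)

theorem IsCurveFam.isEffCartier (hf : IsCurveFam f) (x : S ⟶ C) (hx : x ≫ f = 𝟙 S) :
    BlowUp.IsEffCartierIdeal x.ker := by
  haveI := hf.proper; haveI := hf.smooth; haveI := hf.conn
  exact RelDualLib.isEffCartier_section f hf.dim x hx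

/-- The class of a point. -/
def ptCls {T : Over S} (u : T ⟶ Over.mk f) : IsoCls (PicF.XT f T) := idCls (SecDivLib.pointSec f u).ker

theorem IsCurveFam.isEffCartier_pointSec (hf : IsCurveFam f) {T : Over S} (u : T ⟶ Over.mk f) :
    BlowUp.IsEffCartierIdeal (SecDivLib.pointSec f u).ker :=
  (hf.baseChange T).isEffCartier _ (SecDivLib.pointSec_proj f u)

theorem IsCurveFam.isUnit_ptCls (hf : IsCurveFam f) {T : Over S} (u : T ⟶ Over.mk f) : IsUnit (ptCls u) :=
  isUnit_idCls (hf.isEffCartier_pointSec u)

theorem isPullback_XTmap {T T' : Over S} (h : T' ⟶ T) :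
    IsPullback (PicF.XTmap f h) (PicF.XTproj f T') (PicF.XTproj f T) h.left := by
  refine IsPullback.of_right ?_ (PicGrp.XTmap_XTproj f h) (IsPullback.of_hasPullback f T.hom)
  have e : PicF.XTmap f h ≫ pullback.fst f T.hom = pullback.fst f T'.hom :=
    (pullback.lift_fst _ _ _).trans (Category.comp_id _)
  rw [e, Over.w h]
  exact IsPullback.of_hasPullback f T'.hom

theorem pointSec_XTmap {T T' : Over S} (h : T' ⟶ T) (u : T ⟶ Over.mk f) :
    h.left ≫ SecDivLib.pointSec f u = SecDivLib.pointSec f (h ≫ u) ≫ PicF.XTmap f h := by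
  apply pullback.hom_ext
  · rw [Category.assoc, Category.assoc,
      show PicF.XTmap f h ≫ pullback.fst f T.hom = pullback.fst f T'.hom from
        (pullback.lift_fst _ _ _).trans (Category.comp_id _)]
    erw [pullback.lift_fst, pullback.lift_fst]
    rfl
  · show (h.left ≫ SecDivLib.pointSec f u) ≫ PicF.XTproj f T =
      (SecDivLib.pointSec f (h ≫ u) ≫ PicF.XTmap f h) ≫ PicF.XTproj f T
    rw [Category.assoc, Category.assoc, SecDivLib.pointSec_proj, PicGrp.XTmap_XTproj f h,
      ← Category.assoc, SecDivLib.pointSec_proj, Category.comp_id, Category.id_comp]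

theorem isPullback_pointSec {T T' : Over S} (h : T' ⟶ T) (u : T ⟶ Over.mk f) :
    IsPullback h.left (SecDivLib.pointSec f (h ≫ u)) (SecDivLib.pointSec f u) (PicF.XTmap f h) := by
  refine IsPullback.of_bot ?_ (pointSec_XTmap h u) (isPullback_XTmap h)
  rw [SecDivLib.pointSec_proj, SecDivLib.pointSec_proj]
  exact IsPullback.of_vert_isIso ⟨by simp⟩

theorem IsCurveFam.pull_ptCls (hf : IsCurveFam f) {T T' : Over S} (h : T' ⟶ T) (u : T ⟶ Over.mk f) :
    pull (PicF.XTmap f h) (ptCls u) = ptCls (h ≫ u) := by
  haveI := hf.proper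
  haveI : IsSeparated (PicF.XTproj f T) := inferInstance
  haveI := isClosedImmersion_sec (PicF.XTproj f T) _ (SecDivLib.pointSec_proj f u)
  have e := SecDivLib.comap_ker_of_isPullback (isPullback_pointSec h u)
  rw [ptCls, pull_idCls _ (hf.isEffCartier_pointSec u) (e ▸ hf.isEffCartier_pointSec (h ≫ u)), e]
  rfl

end EllLawLib

end
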