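import Groth.Agent.EllLawLib.Point
import Groth.Agent.CohCmpLib.CanonApps
import Groth.Agent.RelQRegLib.Cartier
import Groth.Agent.QCohLib.Gen
import Groth.Agent.S0927
import Groth.Agent.S10888
import Groth.Agent.FittStratLib.Generic
import Groth.Agent.NakaiLib.Main

/-!
# A bundle of fibre degree one on a family of curves of genus one comes from a section
-/

set_option autoImplicit false
set_option linter.style.haveILetI false
set_option linter.unusedSectionVars false
set_option maxRecDepth 8000
universe u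

open CategoryTheory CategoryTheory.Limits AlgebraicGeometry TopologicalSpace Opposite

noncomputable section

namespace EllLawLib

open CubeConsLib

variable {C S : Scheme.{u}} {f : C ⟶ S}

/-- The degree on every fibre. -/
def FibDeg (f : C ⟶ S) (L : C.Modules) (d : ℤ) : Prop :=
  ∀ s : S, letI : (f.fiber s).Over (Spec (CommRingCat.of (S.residueField s))) := ⟨f.fiberToSpecResidueField s⟩
    Curv2.deg (S.residueField s) (f.fiber s) (CohIII.fiberMod f L s) 1 = d

/-- Modules of the base are trivial on fibres. -/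
theorem pull_fibre_base (s : S) {N : S.Modules} (hN : PicF.IsInvertible N) :
    pull (f.fiberι s) (pull f (cl N)) = 1 := by
  rw [pull_comp, f.fiber_fac s]
  exact pull_eq_one_of_factor _ _ hN

theorem fibre_inst (hf : IsCurveFam f) (s : S) :
    IsProper (f.fiberToSpecResidueField s) ∧ Smooth (f.fiberToSpecResidueField s) ∧
      GeometricallyConnected (f.fiberToSpecResidueField s) :=
  ⟨MorphismProperty.pullback_snd f _ hf.proper, MorphismProperty.pullback_snd f _ hf.smooth,
    MorphismProperty.pullback_snd f _ hf.conn⟩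

/-- The direct image of a bundle of degree one. -/
theorem push_deg_one (hf : IsCurveFam f) {L : C.Modules} (hL : PicF.IsInvertible L) (hd : FibDeg f L 1) :
    PicF.IsInvertible ((Scheme.Modules.pushforward f).obj L) ∧
      ∀ s, IsIso (CohBC.bc0 f (S.fromSpecResidueField s) (f.fiberToSpecResidueField s) (f.fiberι s)
        (f.fiber_fac s) L) := by
  haveI := hf.proper; haveI := hf.smooth
  obtain ⟨hQ, hfp, hfl⟩ := CohCmpLib.rank_one_hyps f ((CohCmpLib.invertible_iff_rank_one L).1 hL)
  haveI := hQ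
  have key : ∀ s : S, Subsingleton (CohIII.fiberH f L s 1) ∧ CohIII.fiberRank f L 0 s = 1 := fun s => by
    obtain ⟨h₁, h₂, h₃⟩ := fibre_inst hf s
    let K := S.residueField s
    letI : (f.fiber s).Over (Spec (CommRingCat.of K)) := ⟨f.fiberToSpecResidueField s⟩
    haveI : IsProper ((f.fiber s) ↘ Spec (CommRingCat.of K)) := h₁
    haveI : Smooth ((f.fiber s) ↘ Spec (CommRingCat.of K)) := h₂
    haveI : GeometricallyConnected ((f.fiber s) ↘ Spec (CommRingCat.of K)) := h₃
    haveI := FibVALib.geometricallyIntegral_of_geometricallyConnected ((f.fiber s) ↘ Spec (CommRingCat.of K))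
    haveI : IsIntegral (f.fiber s) :=
      GeometricallyIntegral.isIntegral_of_subsingleton ((f.fiber s) ↘ Spec (CommRingCat.of K))
    have hLs : PicF.IsInvertible (CohIII.fiberMod f L s) := AmpleDevLib.isInvertible_pb _ hL
    have hg : Curv2.genus K (f.fiber s) = 1 :=
      ((CurvLib.hIso (k := K) (KFlatLib.pullUnitIso (f.fiberι s)) 1).finrank_eq).symm.trans (hf.genus s)
    have hdeg := hd s
    have h1 : Subsingleton (CohIII.fiberH f L s 1) :=
      FibVALib.h1_vanish K (f.fiber s) (hf.dim s) hLs (by rw [hg]; exact le_of_eq (by rw [hdeg]; norm_num))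
    refine ⟨h1, ?_⟩
    have h := CurvLib.deg_curve (k := K) (hf.dim s) (CohIII.fiberMod f L s)
      (FibVALib.finrank_h0_structure K (f.fiber s) (hf.dim s))
    rw [hdeg, hg] at h
    haveI : Subsingleton (Coh.HH (f.fiber s) (CohIII.fiberMod f L s) 1) := h1
    have e1 : Module.finrank K (Coh.HH (f.fiber s) (CohIII.fiberMod f L s) 1) = 0 :=
      Module.finrank_zero_of_subsingleton
    show Module.finrank K (Coh.HH (f.fiber s) (CohIII.fiberMod f L s) 0) = 1
    omega
  obtain ⟨hP, hbc⟩ := CohCmpLib.stratLocal_one hfp hfl (fun s => (key s).2)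
    (fun s => CohCmpLib.epi_bc0_of_vanishing_one f hfp hfl s (key s).1)
  exact ⟨(CohCmpLib.invertible_iff_rank_one _).2 hP,
    fun s => hbc (IsPullback.of_hasPullback f (S.fromSpecResidueField s))⟩

/-- The locally principal ideal of a section. -/
theorem isLocPrincipal_zeroScheme {X : Scheme.{u}} {L : X.Modules} (hL : PicF.IsInvertible L)
    (σ : Coh.structureModule X ⟶ L) : Curv2.IsLocPrincipal (PicF2.zeroScheme L σ) := by
  intro x _
  obtain ⟨U₀, e, hxU, he⟩ := TwistLib.exists_genOn hL x
  obtain ⟨U, hU, hxU', hUU⟩ := exists_isAffineOpen_mem_and_subset (U := U₀) (x := x) hxU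
  have heU := he.res (hUU : U ≤ U₀)
  obtain ⟨a, ha⟩ := (heU U le_rfl).2 (MeroLib.secOn σ U)
  simp only [AmpleLib.res_refl] at ha
  exact ⟨⟨U, hU⟩, hxU', a, MeroLib.zeroScheme_ideal_of_genOn hL σ (W := ⟨U, hU⟩) heU ha⟩

/-- An effective Cartier divisor is of finite presentation. -/
theorem lfp_of_effCartier {X : Scheme.{u}} {I : X.IdealSheafData} (hI : BlowUp.IsEffCartierIdeal I) :
    LocallyOfFinitePresentation I.subschemeι := by
  refine FittStratLib.lfp_subschemeι I fun U => ?_
  let t : Set Γ(X, U.1) := {r | ∃ W : X.affineOpens, X.basicOpen r ≤ W.1 ∧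
    ∃ a : Γ(X, W.1), I.ideal W = Ideal.span {a}}
  have ht : Ideal.span t = ⊤ := by
    refine U.2.iSup_basicOpen_eq_self_iff.1 (le_antisymm (iSup_le fun r => X.basicOpen_le _) fun x hx => ?_)
    obtain ⟨W, hxW, a, -, ha⟩ := hI x
    obtain ⟨r, hr, hxr⟩ := U.2.exists_basicOpen_le (V := W.1) ⟨x, hxW⟩ hx
    exact Opens.mem_iSup.2 ⟨⟨r, W, hr, a, ha⟩, hxr⟩
  refine Ideal.fg_of_localizationSpan t ht fun r => ?_
  obtain ⟨W, hrW, a, ha⟩ := r.2
  haveI := U.2.isLocalization_basicOpen r.1
  have h1 : ((I.ideal U).map (X.presheaf.map (homOfLE (X.basicOpen_le r.1)).op).hom).FG := by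
    rw [I.map_ideal_basicOpen U r.1, ← I.map_ideal (U := X.affineBasicOpen r.1) (V := W) hrW, ha, Ideal.map_span,
      Set.image_singleton]
    exact Submodule.fg_span_singleton _
  let φ := (IsLocalization.algEquiv (Submonoid.powers r.1) Γ(X, X.basicOpen r.1) (Localization.Away r.1))
  have h2 := h1.map φ.toAlgHom.toRingHom
  rw [Ideal.map_map] at h2
  exact (show φ.toAlgHom.toRingHom.comp (X.presheaf.map (homOfLE (X.basicOpen_le r.1)).op).hom =
    algebraMap Γ(X, U.1) (Localization.Away r.1) from φ.toAlgHom.comp_algebraMap) ▸ h2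

/-- A bundle of degree one with trivial direct image is the bundle of a section. -/
theorem exists_section_trivial (hf : IsCurveFam f) {L : C.Modules} (hL : PicF.IsInvertible L)
    (hd : FibDeg f L 1) (e : Coh.structureModule S ≅ (Scheme.Modules.pushforward f).obj L) :
    ∃ x : S ⟶ C, x ≫ f = 𝟙 S ∧ idCls x.ker * cl L = 1 := by
  haveI := hf.proper; haveI := hf.smooth
  obtain ⟨-, hbc⟩ := push_deg_one hf hL hd
  let t : Γ(L, ⊤) := e.hom.app ⊤ (show Γ(Coh.structureModule S, ⊤) from (1 : Γ(S, ⊤)))
  let σ := QCohLib.unitHom L t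
  have he : ClSub.unitToPush f ≫ (Scheme.Modules.pushforward f).map σ = e.hom := by
    rw [NakaiLib.eq_unitHom (ClSub.unitToPush f ≫ (Scheme.Modules.pushforward f).map σ), NakaiLib.eq_unitHom e.hom]
    congr 1
    show σ.app ⊤ (f.appTop (1 : Γ(S, ⊤))) = t
    rw [map_one, QCohLib.unitHom_app, one_smul]
    exact congr($(L.presheaf.map_id _) t)
  have hpt : ∀ s : S, ∃ xs : Spec (S.residueField s) ⟶ f.fiber s, xs ≫ f.fiberToSpecResidueField s = 𝟙 _ ∧
      (PicF2.zeroScheme L σ).comap (f.fiberι s) = xs.ker := fun s => by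
    obtain ⟨h₁, h₂, h₃⟩ := fibre_inst hf s
    let K : Type u := S.residueField s
    letI : (f.fiber s).Over (Spec (CommRingCat.of K)) := ⟨f.fiberToSpecResidueField s⟩
    haveI : IsProper ((f.fiber s) ↘ Spec (CommRingCat.of K)) := h₁
    haveI : Smooth ((f.fiber s) ↘ Spec (CommRingCat.of K)) := h₂
    haveI : GeometricallyConnected ((f.fiber s) ↘ Spec (CommRingCat.of K)) := h₃
    let g := S.fromSpecResidueField s
    let f' := f.fiberToSpecResidueField s
    have hne : SecDivLib.pbSec (f.fiberι s) σ ≠ 0 := by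
      intro h0
      haveI := hbc s
      have e' : (Scheme.Modules.pullback g).map e.hom ≫ CohBC.bc0 f g f' (f.fiberι s) (f.fiber_fac s) L =
          (KFlatLib.pullUnitIso g).hom ≫ ClSub.unitToPush f' ≫
            (Scheme.Modules.pushforward f').map (SecDivLib.pbSec (f.fiberι s) σ) := by
        rw [← he, Functor.map_comp, Category.assoc, SecDivLib.bc0_naturality,
          ← reassoc_of% (CohCmpLib.bc0_unit (f.fiber_fac s)),
          ← Functor.map_comp, SecDivLib.pbSec, Iso.hom_inv_id_assoc]
      rw [h0] at e'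
      simp only [Functor.map_zero, comp_zero] at e'
      have hz : (Scheme.Modules.pullback g).map e.hom = 0 :=
        (cancel_mono (CohBC.bc0 f g f' (f.fiberι s) (f.fiber_fac s) L)).1 (e'.trans zero_comp.symm)
      have hZ : IsZero ((Scheme.Modules.pullback g).obj (Coh.structureModule S)) :=
        IsZero.of_mono_eq_zero _ hz
      exact CohCmpLib.structureModule_id_ne_zero ((hZ.of_iso (KFlatLib.pullUnitIso g).symm).eq_of_src _ _)
    obtain ⟨xs, hxs, hz⟩ := exists_point_of_deg_one (k := K) (hf.dim s) (AmpleDevLib.isInvertible_pb _ hL) (hd s)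
      (SecDivLib.pbSec (f.fiberι s) σ) hne
    exact ⟨xs, hxs, (SecDivLib.zeroScheme_pbSec (f.fiberι s) hL σ).symm.trans hz⟩
  set I := PicF2.zeroScheme L σ with hIdef
  obtain ⟨hI, hfl⟩ := RelQRegLib.relEffCartier_of_locPrincipal f I (isLocPrincipal_zeroScheme hL σ) fun s => by
    obtain ⟨xs, hxs, hk⟩ := hpt s
    rw [hk]
    have hk' : IsCurveFam (f.fiberToSpecResidueField s) :=
      hf.of_isPullback (IsPullback.of_hasPullback f (S.fromSpecResidueField s))
    exact hk'.isEffCartier xs hxs
  let q := I.subschemeι ≫ f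
  haveI : IsProper q := inferInstanceAs (IsProper (I.subschemeι ≫ f))
  haveI : Flat q := hfl
  haveI : LocallyOfFinitePresentation q := by
    haveI : LocallyOfFinitePresentation f := inferInstance
    haveI : LocallyOfFinitePresentation I.subschemeι := lfp_of_effCartier hI
    exact inferInstanceAs (LocallyOfFinitePresentation (I.subschemeι ≫ f))
  obtain ⟨U, hU, hiso⟩ := Groth.Agent.S10888.result q (𝟙 S) q (Category.comp_id q)
  have htop : U = ⊤ := top_le_iff.1 fun s _ => (hU s).2 (by
    obtain ⟨xs, hxs, hk⟩ := hpt s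
    haveI : IsProper (f.fiberToSpecResidueField s) := (fibre_inst hf s).1
    haveI := isClosedImmersion_sec (f.fiberToSpecResidueField s) xs hxs
    let b := pullback.snd I.subschemeι (f.fiberι s)
    have hb : b.ker = xs.ker := by
      rw [← hk, ← SecDivLib.comap_ker_of_isPullback (IsPullback.of_hasPullback I.subschemeι (f.fiberι s)),
        Scheme.IdealSheafData.ker_subschemeι]
    haveI : IsClosedImmersion b := inferInstance
    let φ := IsClosedImmersion.lift xs b hb.ge
    have hφ : φ ≫ xs = b := IsClosedImmersion.lift_fac _ _ _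
    let ψ := IsClosedImmersion.lift b xs hb.le
    have hψ : ψ ≫ b = xs := IsClosedImmersion.lift_fac _ _ _
    have hb' : b ≫ f.fiberToSpecResidueField s = φ := by rw [← hφ, Category.assoc, hxs, Category.comp_id]
    haveI : IsIso φ := ⟨ψ, by rw [← cancel_mono b, Category.assoc, hψ, hφ, Category.id_comp],
      by rw [← cancel_mono xs, Category.assoc, hφ, hψ, Category.id_comp]⟩
    have H : IsPullback (pullback.fst I.subschemeι (f.fiberι s)) (b ≫ f.fiberToSpecResidueField s) q
        (S.fromSpecResidueField s) :=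
      (IsPullback.of_hasPullback I.subschemeι (f.fiberι s)).paste_vert
        (IsPullback.of_hasPullback f (S.fromSpecResidueField s))
    have H' : IsPullback (q.fiberι s) (q.fiberToSpecResidueField s) q (S.fromSpecResidueField s) :=
      IsPullback.of_hasPullback q (S.fromSpecResidueField s)
    haveI : IsIso (q.fiberToSpecResidueField s) := by
      have hh := H'.isoIsPullback_hom_snd _ _ H
      haveI : IsIso (b ≫ f.fiberToSpecResidueField s) := by rw [hb']; infer_instance
      exact (congrArg IsIso hh).mp inferInstance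
    haveI : IsIso ((𝟙 S : S ⟶ S).fiberToSpecResidueField s) :=
      inferInstanceAs (IsIso (pullback.snd (𝟙 S) (S.fromSpecResidueField s)))
    refine ⟨asIso (q.fiberToSpecResidueField s) ≪≫ (asIso ((𝟙 S : S ⟶ S).fiberToSpecResidueField s)).symm, ?_⟩
    rw [Iso.trans_hom, Iso.symm_hom, asIso_hom, asIso_inv, Category.assoc]
    refine Eq.trans ?_ H'.w.symm
    congr 1
    rw [IsIso.inv_comp_eq, ← (𝟙 S : S ⟶ S).fiber_fac s, Category.comp_id])
  subst htop
  haveI : IsIso q := by
    have h' : (MorphismProperty.isomorphisms Scheme.{u}) (q ∣_ ((𝟙 S : S ⟶ S) ⁻¹ᵁ ⊤)) := hiso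
    haveI : IsIso (((𝟙 S : S ⟶ S) ⁻¹ᵁ ⊤).ι) := S.topIso.isIso_hom
    haveI : IsIso ((q ⁻¹ᵁ ((𝟙 S : S ⟶ S) ⁻¹ᵁ ⊤)).ι) := I.subscheme.topIso.isIso_hom
    haveI : IsIso (q ∣_ ((𝟙 S : S ⟶ S) ⁻¹ᵁ ⊤)) := h'
    have h2 := morphismRestrict_ι q ((𝟙 S : S ⟶ S) ⁻¹ᵁ ⊤)
    exact IsIso.of_isIso_fac_left h2.symm
  refine ⟨inv q ≫ I.subschemeι, by rw [Category.assoc]; exact IsIso.inv_hom_id q, ?_⟩
  have hker : (inv q ≫ I.subschemeι).ker = I := by
    rw [Scheme.Hom.ker_comp_of_isIso, Scheme.IdealSheafData.ker_subschemeι]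
  rw [hker]
  haveI := RelDualLib.mono_of_zeroScheme hL hI σ rfl
  exact (cl_tensor _ _).symm.trans (cl_eq_one_iff.2 (AmpleFinGenLib.idealMod_tensor_iso hL σ))

/-- A bundle of degree one is the bundle of a section, up to the base. -/
theorem exists_section (hf : IsCurveFam f) {L : C.Modules} (hL : PicF.IsInvertible L)
    (hd : FibDeg f L 1) :
    ∃ (x : S ⟶ C) (M : S.Modules), x ≫ f = 𝟙 S ∧ PicF.IsInvertible M ∧
      idCls x.ker * cl L = pull f (cl M) := by
  obtain ⟨hN, -⟩ := push_deg_one hf hL hd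
  let N := (Scheme.Modules.pushforward f).obj L
  obtain ⟨N', hN', hNN'⟩ := exists_inv_rep hN
  let L' := CohB1.tensorMod (KFlatLib.pb f N') L
  have hL' : PicF.IsInvertible L' := HilbPolyLib.isInvertible_tensor (AmpleDevLib.isInvertible_pb f hN') hL
  have hd' : FibDeg f L' 1 := fun s => by
    letI : (f.fiber s).Over (Spec (CommRingCat.of (S.residueField s))) := ⟨f.fiberToSpecResidueField s⟩
    have h : pull (f.fiberι s) (cl L') = pull (f.fiberι s) (cl L) := by
      rw [cl_tensor, map_mul]
      exact (congrArg (· * pull (f.fiberι s) (cl L)) (pull_fibre_base s hN')).trans (one_mul _)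
    obtain ⟨e⟩ := cl_eq_iff.1 h
    exact (CurvLib.deg_congr e 1).trans (hd s)
  haveI : HasInjectiveResolutions C.Modules := inferInstance
  obtain ⟨pf⟩ := Groth.Agent.S0927.result f L N' (AmpleDevLib.isFinLocFree_of_isInvertible hN') 0
  haveI : PreservesFiniteLimits (Scheme.Modules.pushforward f) := CohCmpLib.preservesFiniteLimits_push
  let r := (Scheme.Modules.pushforward f).rightDerivedZeroIsoSelf
  obtain ⟨e1⟩ := cl_eq_one_iff.1 ((cl_tensor N' N).trans ((mul_comm _ _).trans hNN'))
  let e : Coh.structureModule S ≅ (Scheme.Modules.pushforward f).obj L' :=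
    e1.symm ≪≫ HilbPolyLib.congrRight N' (r.app L).symm ≪≫ pf ≪≫ r.app L'
  obtain ⟨x, hx, hxc⟩ := exists_section_trivial hf hL' hd' e
  refine ⟨x, N, hx, hN, ?_⟩
  have h1 : idCls x.ker * (pull f (cl N') * cl L) = 1 := hxc
  have h2 : pull f (cl N) * pull f (cl N') = 1 := by rw [← map_mul, hNN', map_one]
  calc idCls x.ker * cl L = (pull f (cl N) * pull f (cl N')) * (idCls x.ker * cl L) := by rw [h2, one_mul]
    _ = pull f (cl N) * (idCls x.ker * (pull f (cl N') * cl L)) := by ac_rfl
    _ = pull f (cl N) := by rw [h1, mul_one]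

end EllLawLib

end
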