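import Groth.Agent.EllLawLib.Exists
import Mathlib.CategoryTheory.Monoidal.Cartesian.Grp
import Mathlib.CategoryTheory.Monoidal.Cartesian.Over

/-!
# The group law on a family of curves of genus one with a section
-/

set_option autoImplicit false
set_option linter.style.haveILetI false
set_option linter.unusedSectionVars false
set_option maxRecDepth 8000
universe u

open CategoryTheory CategoryTheory.Limits AlgebraicGeometry TopologicalSpace Opposite MonoidalCategory CartesianMonoidalCategory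
open scoped MonObj

noncomputable section

namespace EllLawLib

open CubeConsLib

variable {C S : Scheme.{u}} {f : C ⟶ S}

section Deg

/-- The degree of a class. -/
def degCls {k : Type u} [Field k] {X : Scheme.{u}} [X.Over (Spec (CommRingCat.of k))] : IsoCls X → ℤ :=
  Quotient.lift (fun M => Curv2.deg k X M 1) fun _ _ ⟨e⟩ => CurvLib.deg_congr e 1

/-- Invertible of fibre degree `d`, on classes. -/
def HasDeg (f : C ⟶ S) (c : IsoCls C) (d : ℤ) : Prop :=
  ∃ L : C.Modules, PicF.IsInvertible L ∧ cl L = c ∧ FibDeg f L d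

theorem HasDeg.mul (hf : IsCurveFam f) {a b : IsoCls C} {m n : ℤ} (ha : HasDeg f a m) (hb : HasDeg f b n) :
    HasDeg f (a * b) (m + n) := by
  obtain ⟨L, hL, rfl, hLd⟩ := ha
  obtain ⟨M, hM, rfl, hMd⟩ := hb
  refine ⟨CohB1.tensorMod L M, HilbPolyLib.isInvertible_tensor hL hM, cl_tensor L M, fun s => ?_⟩
  obtain ⟨h₁, h₂, h₃⟩ := fibre_inst hf s
  let K : Type u := S.residueField s
  letI : (f.fiber s).Over (Spec (CommRingCat.of K)) := ⟨f.fiberToSpecResidueField s⟩
  haveI : IsProper ((f.fiber s) ↘ Spec (CommRingCat.of K)) := h₁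
  haveI : Smooth ((f.fiber s) ↘ Spec (CommRingCat.of K)) := h₂
  haveI : GeometricallyConnected ((f.fiber s) ↘ Spec (CommRingCat.of K)) := h₃
  haveI := FibVALib.geometricallyIntegral_of_geometricallyConnected ((f.fiber s) ↘ Spec (CommRingCat.of K))
  haveI : IsIntegral (f.fiber s) :=
    GeometricallyIntegral.isIntegral_of_subsingleton ((f.fiber s) ↘ Spec (CommRingCat.of K))
  obtain ⟨e⟩ := cl_eq_iff.1 (show cl ((Scheme.Modules.pullback (f.fiberι s)).obj (CohB1.tensorMod L M)) =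
    cl (CohB1.tensorMod (CohIII.fiberMod f L s) (CohIII.fiberMod f M s)) from
      map_mul (pull (f.fiberι s)) (cl L) (cl M))
  exact (CurvLib.deg_congr e 1).trans ((GenusZeroLib.deg_tensor K (hf.dim s)
    (AmpleDevLib.isInvertible_pb _ hL) (AmpleDevLib.isInvertible_pb _ hM)).trans (by
      rw [← hLd s, ← hMd s]))

theorem hasDeg_one (hf : IsCurveFam f) : HasDeg f (1 : IsoCls C) 0 := by
  refine ⟨Coh.structureModule C, CurvLib.isInvertible_structureModule, rfl, fun s => ?_⟩
  letI : (f.fiber s).Over (Spec (CommRingCat.of (S.residueField s))) := ⟨f.fiberToSpecResidueField s⟩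
  refine (CurvLib.deg_congr (KFlatLib.pullUnitIso (f.fiberι s)) 1).trans ?_
  simp [Curv2.deg]

/-- The inverse class has opposite degree. -/
theorem HasDeg.exists_inv (hf : IsCurveFam f) {a : IsoCls C} {m : ℤ} (ha : HasDeg f a m) :
    ∃ b, a * b = 1 ∧ HasDeg f b (-m) := by
  obtain ⟨L, hL, rfl, hLd⟩ := ha
  obtain ⟨N, hN, hLN⟩ := exists_inv_rep hL
  refine ⟨cl N, hLN, N, hN, rfl, fun s => ?_⟩
  obtain ⟨h₁, h₂, h₃⟩ := fibre_inst hf s
  let K : Type u := S.residueField s
  letI : (f.fiber s).Over (Spec (CommRingCat.of K)) := ⟨f.fiberToSpecResidueField s⟩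
  haveI : IsProper ((f.fiber s) ↘ Spec (CommRingCat.of K)) := h₁
  haveI : Smooth ((f.fiber s) ↘ Spec (CommRingCat.of K)) := h₂
  haveI : GeometricallyConnected ((f.fiber s) ↘ Spec (CommRingCat.of K)) := h₃
  haveI := FibVALib.geometricallyIntegral_of_geometricallyConnected ((f.fiber s) ↘ Spec (CommRingCat.of K))
  haveI : IsIntegral (f.fiber s) :=
    GeometricallyIntegral.isIntegral_of_subsingleton ((f.fiber s) ↘ Spec (CommRingCat.of K))
  obtain ⟨e⟩ := cl_eq_iff.1 (show cl (CohB1.tensorMod (CohIII.fiberMod f L s) (CohIII.fiberMod f N s)) =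
    cl (Coh.structureModule (f.fiber s)) from
      (map_mul (pull (f.fiberι s)) (cl L) (cl N)).symm.trans ((congrArg _ hLN).trans (map_one _)))
  have h := (CurvLib.deg_congr (k := K) e 1).symm.trans (GenusZeroLib.deg_tensor K (hf.dim s)
    (AmpleDevLib.isInvertible_pb _ hL) (AmpleDevLib.isInvertible_pb _ hN))
  have h0 : Curv2.deg K (f.fiber s) (Coh.structureModule (f.fiber s)) 1 = 0 := by simp [Curv2.deg]
  have hLs := hLd s
  change Curv2.deg K (f.fiber s) (CohIII.fiberMod f N s) 1 = -m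
  change Curv2.deg K (f.fiber s) (Coh.structureModule (f.fiber s)) 1 =
    Curv2.deg K (f.fiber s) (CohIII.fiberMod f L s) 1 + Curv2.deg K (f.fiber s) (CohIII.fiberMod f N s) 1 at h
  rw [h0, hLs] at h
  omega

/-- The ideal of a section has degree `-1`. -/
theorem hasDeg_idCls (hf : IsCurveFam f) (x : S ⟶ C) (hx : x ≫ f = 𝟙 S) : HasDeg f (idCls x.ker) (-1) := by
  have hI := hf.isEffCartier x hx
  refine ⟨ClSub.idealMod x.ker, IntMultLib.isInvertible_idealMod _ hI, rfl, fun s => ?_⟩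
  haveI := hf.proper
  haveI := isClosedImmersion_sec f x hx
  obtain ⟨h₁, h₂, h₃⟩ := fibre_inst hf s
  let K : Type u := S.residueField s
  letI : (f.fiber s).Over (Spec (CommRingCat.of K)) := ⟨f.fiberToSpecResidueField s⟩
  haveI : IsProper ((f.fiber s) ↘ Spec (CommRingCat.of K)) := h₁
  haveI : Smooth ((f.fiber s) ↘ Spec (CommRingCat.of K)) := h₂
  haveI : GeometricallyConnected ((f.fiber s) ↘ Spec (CommRingCat.of K)) := h₃
  haveI := FibVALib.geometricallyIntegral_of_geometricallyConnected ((f.fiber s) ↘ Spec (CommRingCat.of K))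
  haveI : IsIntegral (f.fiber s) :=
    GeometricallyIntegral.isIntegral_of_subsingleton ((f.fiber s) ↘ Spec (CommRingCat.of K))
  let xs := SecDivLib.fibrePt f x hx s
  have hxs : xs ≫ ((f.fiber s) ↘ Spec (CommRingCat.of K)) = 𝟙 _ := SecDivLib.fibrePt_toSpec f x hx s
  have e1 : x.ker.comap (f.fiberι s) = xs.ker := SecDivLib.comap_ker_of_isPullback (SecDivLib.isPullback_fibrePt f x hx s)
  have hk' : IsCurveFam (f.fiberToSpecResidueField s) :=
    hf.of_isPullback (IsPullback.of_hasPullback f (S.fromSpecResidueField s))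
  have hc := pull_idCls (f.fiberι s) hI (e1 ▸ hk'.isEffCartier xs hxs)
  rw [e1, SecDivLib.ker_rational (k := K) xs hxs] at hc
  obtain ⟨e⟩ := cl_eq_iff.1 hc
  have hP : IsClosed ({xs (IsLocalRing.closedPoint K)} : Set (f.fiber s)) := GenusZeroLib.isClosed_rational (k := K) xs hxs _
  haveI : IsDiscreteValuationRing ((f.fiber s).presheaf.stalk (xs (IsLocalRing.closedPoint K))) :=
    HurwitzLib.dvr_stalk_closed (k := K) (hf.dim s) hP
  obtain ⟨I, ⟨eI⟩, -, hId⟩ := GenusZeroLib.exists_idealMod_iso (k := K) hP (hf.dim s)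
  rw [GenusZeroLib.finrank_residueField_rational (k := K) xs hxs] at hId
  exact (CurvLib.deg_congr (k := K) (e ≪≫ eI.symm) 1).trans hId

end Deg

section Pts

theorem pointSec_fst {T : Over S} (u : T ⟶ Over.mk f) :
    SecDivLib.pointSec f u ≫ pullback.fst f T.hom = u.left := pullback.lift_fst _ _ _

/-- The point of a section of the base change. -/
def ofSec {T : Over S} (x : T.left ⟶ PicF.XT f T) (hx : x ≫ PicF.XTproj f T = 𝟙 _) : T ⟶ Over.mk f :=
  Over.homMk (x ≫ pullback.fst f T.hom) (by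
    show (x ≫ pullback.fst f T.hom) ≫ f = T.hom
    rw [Category.assoc, pullback.condition, reassoc_of% hx])

theorem pointSec_ofSec {T : Over S} (x : T.left ⟶ PicF.XT f T) (hx : x ≫ PicF.XTproj f T = 𝟙 _) :
    SecDivLib.pointSec f (ofSec x hx) = x := by
  apply pullback.hom_ext
  · exact pointSec_fst _
  · exact (SecDivLib.pointSec_proj f _).trans hx.symm

theorem IsCurveFam.hasDeg_ptCls (hf : IsCurveFam f) {T : Over S} (u : T ⟶ Over.mk f) :
    HasDeg (PicF.XTproj f T) (ptCls u) (-1) :=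
  hasDeg_idCls (hf.baseChange T) _ (SecDivLib.pointSec_proj f u)

/-- A class of degree `-1` is the class of a point, up to the base. -/
theorem exists_pt (hf : IsCurveFam f) {T : Over S} {c : IsoCls (PicF.XT f T)}
    (hc : HasDeg (PicF.XTproj f T) c (-1)) :
    ∃ (R : T ⟶ Over.mk f) (M : T.left.Modules), PicF.IsInvertible M ∧
      c = ptCls R * pull (PicF.XTproj f T) (cl M) := by
  obtain ⟨b, hb, hbd⟩ := hc.exists_inv (hf.baseChange T)
  obtain ⟨L, hL, rfl, hLd⟩ := hbd
  obtain ⟨x, N, hx, hN, hxN⟩ := exists_section (hf.baseChange T) hL (by simpa using hLd)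
  obtain ⟨M, hM, hNM⟩ := exists_inv_rep hN
  refine ⟨ofSec x hx, M, hM, ?_⟩
  have e : ptCls (ofSec x hx) = idCls x.ker := by rw [ptCls, pointSec_ofSec]
  have h1 : pull (PicF.XTproj f T) (cl N) * pull (PicF.XTproj f T) (cl M) = 1 := by rw [← map_mul, hNM, map_one]
  calc c = c * (pull (PicF.XTproj f T) (cl N) * pull (PicF.XTproj f T) (cl M)) := by rw [h1, mul_one]
    _ = (c * cl L) * (idCls x.ker * pull (PicF.XTproj f T) (cl M)) := by rw [← hxN]; ac_rfl
    _ = ptCls (ofSec x hx) * pull (PicF.XTproj f T) (cl M) := by rw [hb, one_mul, e]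

theorem pull_XTmap_base {T T' : Over S} (h : T' ⟶ T) (M : T.left.Modules) :
    pull (PicF.XTmap f h) (pull (PicF.XTproj f T) (cl M)) =
      pull (PicF.XTproj f T') (cl ((Scheme.Modules.pullback h.left).obj M)) := by
  rw [pull_comp, PicGrp.XTmap_XTproj f h, ← pull_comp, pull_cl h.left]

/-- Points with the same class up to the base are equal. -/
theorem pt_eq (hf : IsCurveFam f) {T : Over S} {u v : T ⟶ Over.mk f} {M N : T.left.Modules}
    (hM : PicF.IsInvertible M) (hN : PicF.IsInvertible N)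
    (h : ptCls u * pull (PicF.XTproj f T) (cl M) = ptCls v * pull (PicF.XTproj f T) (cl N)) : u = v := by
  choose U hU eU using hM
  choose V hV eV using hN
  refine Over.OverMorphism.ext (Scheme.Cover.hom_ext (T.left.openCoverOfIsOpenCover (fun y => U y ⊓ V y)
    (eq_top_iff.2 fun y _ => Opens.mem_iSup.2 ⟨y, hU y, hV y⟩)) _ _ fun y => ?_)
  let W : T.left.Opens := U y ⊓ V y
  let T' : Over S := Over.mk (W.ι ≫ T.hom)
  let j : T' ⟶ T := Over.homMk W.ι rfl
  have key : ∀ (M : T.left.Modules) (U : T.left.Opens) (hWU : W ≤ U),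
      Nonempty (M.restrict U.ι ≅ Coh.structureModule (↑U)) → pull j.left (cl M) = 1 := by
    rintro M U hWU ⟨e⟩
    show pull W.ι (cl M) = 1
    rw [← T.left.homOfLE_ι hWU, ← pull_comp, pull_cl U.ι,
      show cl ((Scheme.Modules.pullback U.ι).obj M) = 1 from
        cl_eq_one_iff.2 ⟨((Scheme.Modules.restrictFunctorIsoPullback U.ι).app M).symm ≪≫ e⟩, map_one]
  have h' := congrArg (pull (PicF.XTmap f j)) h
  rw [map_mul, map_mul, hf.pull_ptCls, hf.pull_ptCls, pull_comp, pull_comp, PicGrp.XTmap_XTproj f j,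
    ← pull_comp, ← pull_comp, key M (U y) inf_le_left (eU y), key N (V y) inf_le_right (eV y), map_one,
    mul_one, mul_one] at h'
  obtain ⟨e⟩ := cl_eq_iff.1 h'
  have hf' := hf.baseChange T'
  haveI := hf'.proper; haveI := hf'.smooth; haveI := hf'.conn
  obtain ⟨L, hL, hL'⟩ := exists_inv_rep (IntMultLib.isInvertible_idealMod _ (hf.isEffCartier_pointSec (j ≫ u)))
  have h1 : ClSub.IsInverseOf L (ClSub.idealMod (SecDivLib.pointSec f (j ≫ u)).ker) :=
    cl_eq_one_iff.1 ((cl_tensor _ _).trans ((mul_comm _ _).trans hL'))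
  have h2 : ClSub.IsInverseOf L (ClSub.idealMod (SecDivLib.pointSec f (j ≫ v)).ker) :=
    ⟨HilbPolyLib.congrRight L e.symm ≪≫ h1.some⟩
  have h3 := SecDivLib.section_unique (PicF.XTproj f T') hf'.dim (fun s => (hf'.genus s).ge) _ _
    (SecDivLib.pointSec_proj f (j ≫ u)) (SecDivLib.pointSec_proj f (j ≫ v)) hL h1 h2
  have h4 := congrArg (· ≫ pullback.fst f T'.hom) h3
  simp only [pointSec_fst] at h4
  exact h4.symm

end Pts

section Group

variable (hf : IsCurveFam f) (σ : S ⟶ C) (hσ : σ ≫ f = 𝟙 S)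

/-- The origin. -/
def origin (T : Over S) : T ⟶ Over.mk f :=
  Over.homMk (T.hom ≫ σ) (by rw [Category.assoc]; exact (congrArg (T.hom ≫ ·) hσ).trans (Category.comp_id _))

theorem comp_origin {T T' : Over S} (h : T' ⟶ T) : h ≫ origin σ hσ T = origin σ hσ T' := by
  refine Over.OverMorphism.ext ?_
  show h.left ≫ T.hom ≫ σ = T'.hom ≫ σ
  rw [← Category.assoc, Over.w h]

/-- The relation `P · Q = R`. -/
def Rel {T : Over S} (P Q R : T ⟶ Over.mk f) : Prop :=
  ∃ M : T.left.Modules, PicF.IsInvertible M ∧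
    ptCls P * ptCls Q = ptCls R * ptCls (origin σ hσ T) * pull (PicF.XTproj f T) (cl M)

variable {σ hσ}

include hf in
theorem Rel.exists {T : Over S} (P Q : T ⟶ Over.mk f) : ∃ R, Rel σ hσ P Q R := by
  obtain ⟨b, hb, hbd⟩ := (hf.hasDeg_ptCls (origin σ hσ T)).exists_inv (hf.baseChange T)
  have hc := ((hf.hasDeg_ptCls P).mul (hf.baseChange T) (hf.hasDeg_ptCls Q)).mul (hf.baseChange T) hbd
  obtain ⟨R, M, hM, hR⟩ := exists_pt hf (c := ptCls P * ptCls Q * b) (by simpa using hc)
  refine ⟨R, M, hM, ?_⟩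
  calc ptCls P * ptCls Q = (ptCls P * ptCls Q * b) * ptCls (origin σ hσ T) := by
        rw [mul_assoc _ b, mul_comm b, hb, mul_one]
    _ = ptCls R * ptCls (origin σ hσ T) * pull (PicF.XTproj f T) (cl M) := by rw [hR]; ac_rfl

include hf in
theorem Rel.unique {T : Over S} {P Q R R' : T ⟶ Over.mk f} (h : Rel σ hσ P Q R) (h' : Rel σ hσ P Q R') :
    R = R' := by
  obtain ⟨M, hM, e⟩ := h
  obtain ⟨M', hM', e'⟩ := h'
  refine pt_eq hf hM hM' ((hf.isUnit_ptCls (origin σ hσ T)).mul_left_injective ?_)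
  simp only
  rw [mul_right_comm (ptCls R), mul_right_comm (ptCls R'), ← e, ← e']

theorem Rel.symm {T : Over S} {P Q R : T ⟶ Over.mk f} (h : Rel σ hσ P Q R) : Rel σ hσ Q P R := by
  obtain ⟨M, hM, e⟩ := h
  exact ⟨M, hM, by rw [mul_comm, e]⟩

theorem Rel.one_left {T : Over S} (Q : T ⟶ Over.mk f) : Rel σ hσ (origin σ hσ T) Q Q := by
  refine ⟨Coh.structureModule T.left, CurvLib.isInvertible_structureModule, ?_⟩
  rw [show cl (Coh.structureModule T.left) = 1 from rfl, map_one, mul_one, mul_comm]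

include hf in
theorem Rel.assoc {T : Over S} {P Q R A B D D' : T ⟶ Over.mk f} (h1 : Rel σ hσ P Q A) (h2 : Rel σ hσ A R D)
    (h3 : Rel σ hσ Q R B) (h4 : Rel σ hσ P B D') : D = D' := by
  obtain ⟨M₁, hM₁, e₁⟩ := h1
  obtain ⟨M₂, hM₂, e₂⟩ := h2
  obtain ⟨M₃, hM₃, e₃⟩ := h3
  obtain ⟨M₄, hM₄, e₄⟩ := h4
  refine pt_eq hf (HilbPolyLib.isInvertible_tensor hM₁ hM₂) (HilbPolyLib.isInvertible_tensor hM₃ hM₄) ?_
  refine ((hf.isUnit_ptCls (origin σ hσ T)).mul (hf.isUnit_ptCls (origin σ hσ T))).mul_left_injective ?_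
  simp only
  rw [cl_tensor, cl_tensor, map_mul, map_mul]
  set o := ptCls (origin σ hσ T)
  set p := pull (PicF.XTproj f T)
  calc ptCls D * (p (cl M₁) * p (cl M₂)) * (o * o)
      = (ptCls D * o * p (cl M₂)) * (o * p (cl M₁)) := by ac_rfl
    _ = (ptCls A * o * p (cl M₁)) * ptCls R := by rw [← e₂]; ac_rfl
    _ = ptCls P * (ptCls Q * ptCls R) := by rw [← e₁, mul_assoc]
    _ = ptCls P * (ptCls B * o * p (cl M₃)) := by rw [← e₃]
    _ = (ptCls P * ptCls B) * (o * p (cl M₃)) := by ac_rfl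
    _ = (ptCls D' * o * p (cl M₄)) * (o * p (cl M₃)) := by rw [← e₄]
    _ = ptCls D' * (p (cl M₃) * p (cl M₄)) * (o * o) := by ac_rfl

include hf in
theorem Rel.exists_inverse {T : Over S} (P : T ⟶ Over.mk f) : ∃ A, Rel σ hσ A P (origin σ hσ T) := by
  obtain ⟨b, hb, hbd⟩ := (hf.hasDeg_ptCls P).exists_inv (hf.baseChange T)
  have hc := ((hf.hasDeg_ptCls (origin σ hσ T)).mul (hf.baseChange T) (hf.hasDeg_ptCls (origin σ hσ T))).mul
    (hf.baseChange T) hbd
  obtain ⟨A, M, hM, hA⟩ := exists_pt hf (c := ptCls (origin σ hσ T) * ptCls (origin σ hσ T) * b) (by simpa using hc)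
  obtain ⟨M', hM', hMM'⟩ := exists_inv_rep hM
  refine ⟨A, M', hM', ?_⟩
  have hm : pull (PicF.XTproj f T) (cl M) * pull (PicF.XTproj f T) (cl M') = 1 := by rw [← map_mul, hMM', map_one]
  calc ptCls A * ptCls P = ptCls A * ptCls P * (pull (PicF.XTproj f T) (cl M) * pull (PicF.XTproj f T) (cl M')) := by
        rw [hm, mul_one]
    _ = (ptCls A * pull (PicF.XTproj f T) (cl M)) * ptCls P * pull (PicF.XTproj f T) (cl M') := by ac_rfl
    _ = ptCls (origin σ hσ T) * ptCls (origin σ hσ T) * (ptCls P * b) * pull (PicF.XTproj f T) (cl M') := by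
        rw [← hA]; ac_rfl
    _ = ptCls (origin σ hσ T) * ptCls (origin σ hσ T) * pull (PicF.XTproj f T) (cl M') := by rw [hb, mul_one]

include hf in
theorem Rel.comp {T T' : Over S} (h : T' ⟶ T) {P Q R : T ⟶ Over.mk f} (hr : Rel σ hσ P Q R) :
    Rel σ hσ (h ≫ P) (h ≫ Q) (h ≫ R) := by
  obtain ⟨M, hM, e⟩ := hr
  refine ⟨_, AmpleDevLib.isInvertible_pb h.left hM, ?_⟩
  have e' := congrArg (pull (PicF.XTmap f h)) e
  simp only [map_mul, hf.pull_ptCls, pull_XTmap_base, comp_origin] at e'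
  exact e'

variable (σ hσ)

/-- The product of points. -/
def ptMul {T : Over S} (P Q : T ⟶ Over.mk f) : T ⟶ Over.mk f := (Rel.exists hf (σ := σ) (hσ := hσ) P Q).choose

theorem rel_ptMul {T : Over S} (P Q : T ⟶ Over.mk f) : Rel σ hσ P Q (ptMul hf σ hσ P Q) :=
  (Rel.exists hf (σ := σ) (hσ := hσ) P Q).choose_spec

/-- The inverse of a point. -/
def ptInv {T : Over S} (P : T ⟶ Over.mk f) : T ⟶ Over.mk f :=
  (Rel.exists_inverse hf (σ := σ) (hσ := hσ) P).choose

/-- The group of `T`-points. -/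
@[reducible] def ptGroup (T : Over S) : Group (T ⟶ Over.mk f) where
  mul := ptMul hf σ hσ
  one := origin σ hσ T
  inv := ptInv hf σ hσ
  mul_assoc P Q R := Rel.assoc hf (rel_ptMul hf σ hσ P Q) (rel_ptMul hf σ hσ _ R) (rel_ptMul hf σ hσ Q R)
    (rel_ptMul hf σ hσ P _)
  one_mul P := Rel.unique hf (rel_ptMul hf σ hσ _ P) (Rel.one_left P)
  mul_one P := Rel.unique hf (rel_ptMul hf σ hσ P _) (Rel.one_left P).symm
  inv_mul_cancel P := Rel.unique hf (rel_ptMul hf σ hσ (ptInv hf σ hσ P) P)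
    (Rel.exists_inverse hf (σ := σ) (hσ := hσ) P).choose_spec

/-- The functor of points, with values in groups. -/
def ptFunctor : (Over S)ᵒᵖ ⥤ GrpCat.{u} where
  obj T := letI := ptGroup hf σ hσ T.unop; GrpCat.of (T.unop ⟶ Over.mk f)
  map {T T'} h := letI := ptGroup hf σ hσ T.unop; letI := ptGroup hf σ hσ T'.unop
    GrpCat.ofHom (X := T.unop ⟶ Over.mk f) (Y := T'.unop ⟶ Over.mk f)
    { toFun := fun P => h.unop ≫ P
      map_one' := comp_origin σ hσ h.unop
      map_mul' := fun P Q => Rel.unique hf ((rel_ptMul hf σ hσ P Q).comp hf h.unop)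
        (rel_ptMul hf σ hσ (h.unop ≫ P) (h.unop ≫ Q)) }
  map_id T := GrpCat.ext fun P => Category.id_comp P
  map_comp h h' := GrpCat.ext fun P => Category.assoc _ _ P

/-- The functor of points is represented by the curve. -/
def ptRep : (ptFunctor hf σ hσ ⋙ forget _).RepresentableBy (Over.mk f) where
  homEquiv := Equiv.refl _
  homEquiv_comp _ _ := rfl

/-- The group scheme. -/
@[reducible] def grpObj : GrpObj (Over.mk f) := GrpObj.ofRepresentableBy _ _ (ptRep hf σ hσ)

theorem mul_eq {T : Over S} (P Q : T ⟶ Over.mk f) :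
    (letI := grpObj hf σ hσ; P * Q) = ptMul hf σ hσ P Q := by
  letI := grpObj hf σ hσ
  show lift P Q ≫ MonObj.mul = _
  refine Rel.unique hf ?_ (rel_ptMul hf σ hσ P Q)
  have := (rel_ptMul hf σ hσ (fst (Over.mk f) (Over.mk f)) (snd (Over.mk f) (Over.mk f))).comp hf (lift P Q)
  rw [lift_fst, lift_snd] at this
  exact this

theorem mul_iff_rel {T : Over S} (P Q R : T ⟶ Over.mk f) :
    (letI := grpObj hf σ hσ; P * Q) = R ↔ Rel σ hσ P Q R := by
  rw [mul_eq]
  exact ⟨fun e => e ▸ rel_ptMul hf σ hσ P Q, fun e => Rel.unique hf (rel_ptMul hf σ hσ P Q) e⟩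

theorem grpObj_one : (grpObj hf σ hσ).one.left = σ := by
  show (origin σ hσ (𝟙_ (Over S))).left = σ
  exact Category.id_comp σ

theorem grpObj_comm : letI := grpObj hf σ hσ; IsCommMonObj (Over.mk f) := by
  letI := grpObj hf σ hσ
  constructor
  show (β_ (Over.mk f) (Over.mk f)).hom ≫ MonObj.mul = MonObj.mul
  have e : (β_ (Over.mk f) (Over.mk f)).hom = lift (snd _ _) (fst _ _) := by ext <;> simp
  rw [e]
  show snd (Over.mk f) (Over.mk f) * fst (Over.mk f) (Over.mk f) = MonObj.mul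
  rw [mul_iff_rel]
  exact (rel_ptMul hf σ hσ (fst (Over.mk f) (Over.mk f)) (snd (Over.mk f) (Over.mk f))).symm

end Group

end EllLawLib

end
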