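import Groth.Agent.EllLawLib.Law
import Groth.Agent.CubeConsLib.Transpose
import Groth.Agent.AlgEquivLib.Geom

/-!
# The degree zero class of a point of a family of curves of genus one
-/

set_option autoImplicit false
set_option linter.style.haveILetI false
set_option linter.unusedSectionVars false
set_option maxRecDepth 8000
universe u

open CategoryTheory CategoryTheory.Limits AlgebraicGeometry TopologicalSpace Opposite

noncomputable section

namespace EllLawLib

open CubeConsLib

variable {C S : Scheme.{u}} {f : C ⟶ S}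

theorem toCl_eq {X : Scheme.{u}} {A B : X.Modules} : PicF.cl A = PicF.cl B ↔ cl A = cl B :=
  (PicGrp.cl_eq_cl_iff A B).trans cl_eq_iff.symm

/-- The ideal of a section, base changed. -/
theorem pull_fst_section (hf : IsCurveFam f) (e : S ⟶ C) (he : e ≫ f = 𝟙 S) (T : Over S) :
    pull (pullback.fst f T.hom) (idCls e.ker) = ptCls (origin e he T) := by
  haveI := hf.proper
  haveI := isClosedImmersion_sec f e he
  have H : IsPullback T.hom (SecDivLib.pointSec f (origin e he T)) e (pullback.fst f T.hom) := by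
    refine IsPullback.of_bot ?_ (pointSec_fst (origin e he T)).symm (IsPullback.of_hasPullback f T.hom).flip.flip
    rw [SecDivLib.pointSec_proj, he]
    exact IsPullback.of_vert_isIso ⟨by simp⟩
  have hc := SecDivLib.comap_ker_of_isPullback H
  rw [pull_idCls _ (hf.isEffCartier e he) (hc ▸ hf.isEffCartier_pointSec _), hc]
  rfl

/-- The universal degree zero class. -/
def dUniv (e : S ⟶ C) (LΔ : (PicF.XT f (Over.mk f)).Modules) : (PicF.XT f (Over.mk f)).Modules :=
  CohB1.tensorMod LΔ ((Scheme.Modules.pullback (pullback.fst f f)).obj (ClSub.idealMod e.ker))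

/-- The degree zero class of a point. -/
def dCls (e : S ⟶ C) (LΔ : (PicF.XT f (Over.mk f)).Modules) {T : Over S} (u : T ⟶ Over.mk f) :
    IsoCls (PicF.XT f T) :=
  pull (PicF.XTmap f u) (cl (dUniv e LΔ))

variable (hf : IsCurveFam f) (e : S ⟶ C) (he : e ≫ f = 𝟙 S) (LΔ : (PicF.XT f (Over.mk f)).Modules)
  (hΔ : ClSub.IsInverseOf LΔ (ClSub.idealMod (pullback.diagonal f).ker))

include hf hΔ in
theorem dCls_spec {T : Over S} (u : T ⟶ Over.mk f) : dCls e LΔ u * ptCls u = ptCls (origin e he T) := by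
  haveI := hf.proper
  haveI : IsClosedImmersion (pullback.diagonal f) := inferInstance
  have hid : SecDivLib.pointSec f (𝟙 (Over.mk f)) = pullback.diagonal f := by
    apply pullback.hom_ext
    · exact (pointSec_fst _).trans (pullback.diagonal_fst f).symm
    · exact (SecDivLib.pointSec_proj f _).trans (pullback.diagonal_snd f).symm
  have hEC : BlowUp.IsEffCartierIdeal (pullback.diagonal f).ker :=
    hid ▸ hf.isEffCartier_pointSec (𝟙 (Over.mk f))
  have hc := SecDivLib.comap_ker_of_isPullback (SecDivLib.isPullback_pointSec f u)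
  have h1 : pull (PicF.XTmap f u) (idCls (pullback.diagonal f).ker) = ptCls u := by
    rw [pull_idCls _ hEC (hc ▸ hf.isEffCartier_pointSec u), hc]
    rfl
  have h2 : pull (PicF.XTmap f u) (cl LΔ) * ptCls u = 1 := by
    rw [← h1, ← map_mul]
    exact (congrArg _ ((cl_tensor _ _).symm.trans (cl_eq_one_iff.2 hΔ))).trans (map_one _)
  have h3 : pull (PicF.XTmap f u) (pull (pullback.fst f f) (idCls e.ker)) = ptCls (origin e he T) := by
    rw [pull_comp, show PicF.XTmap f u ≫ pullback.fst f f = pullback.fst f T.hom from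
      (pullback.lift_fst _ _ _).trans (Category.comp_id _)]
    exact pull_fst_section hf e he T
  rw [dCls, dUniv, cl_tensor, map_mul, mul_right_comm, h2, one_mul]
  exact h3

include hf he hΔ in
theorem eq_of_dCls {T : Over S} {u v : T ⟶ Over.mk f} {M : T.left.Modules} (hM : PicF.IsInvertible M)
    (h : dCls e LΔ u = dCls e LΔ v * pull (PicF.XTproj f T) (cl M)) : u = v := by
  refine (pt_eq hf CurvLib.isInvertible_structureModule hM (u := v) (v := u) ?_).symm
  refine (hf.isUnit_ptCls (origin e he T)).mul_right_injective ?_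
  simp only
  rw [show cl (Coh.structureModule T.left) = 1 from rfl, map_one, mul_one]
  calc ptCls (origin e he T) * ptCls v = dCls e LΔ u * ptCls u * ptCls v := by rw [dCls_spec hf e he LΔ hΔ]
    _ = dCls e LΔ v * ptCls v * (ptCls u * pull (PicF.XTproj f T) (cl M)) := by rw [h]; ac_rfl
    _ = ptCls (origin e he T) * (ptCls u * pull (PicF.XTproj f T) (cl M)) := by rw [dCls_spec hf e he LΔ hΔ]

theorem dCls_comp {T T' : Over S} (h : T' ⟶ T) (u : T ⟶ Over.mk f) :
    pull (PicF.XTmap f h) (dCls e LΔ u) = dCls e LΔ (h ≫ u) := by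
  rw [dCls, pull_comp, dCls, ← PicGrp.XTmap_comp]

include hf hΔ in
theorem dCls_origin (T : Over S) : dCls e LΔ (origin e he T) = 1 :=
  (hf.isUnit_ptCls (origin e he T)).mul_left_injective
    ((dCls_spec hf e he LΔ hΔ _).trans (one_mul _).symm)

include hf he hΔ in
theorem isPicZeroCl_dUniv (hLΔ : PicF.IsInvertible LΔ) :
    AbDual.IsPicZeroCl f (Over.mk f) (PicF.cl (dUniv e LΔ)) := by
  refine ⟨_, rfl, HilbPolyLib.isInvertible_tensor hLΔ
    (AmpleDevLib.isInvertible_pb _ (IntMultLib.isInvertible_idealMod _ (hf.isEffCartier e he))), fun x => ?_⟩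
  intro Ω _ _ σ _
  let g : PicF.XT f (Over.mk f) ⟶ C := PicF.XTproj f (Over.mk f)
  letI : (pullback g σ).Over (Spec (CommRingCat.of Ω)) := ⟨pullback.snd g σ⟩
  haveI := hf.proper
  have hg := hf.baseChange (Over.mk f)
  haveI : IsProper g := hg.proper
  haveI : GeometricallyConnected g := hg.conn
  haveI hqc : QuasiCompact (pullback.snd g σ) := inferInstance
  haveI : IsProper (pullback.snd g σ) := MorphismProperty.pullback_snd (P := @IsProper) _ _ inferInstance
  let q : pullback g σ ⟶ Spec (CommRingCat.of Ω) := pullback.snd g σ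
  obtain ⟨p₀, hp₀def⟩ : ∃ p₀ : pullback g σ ⟶ C, p₀ = pullback.fst g σ ≫ pullback.fst f f := ⟨_, rfl⟩
  have hp₀ : p₀ ≫ f = q ≫ σ ≫ f := by
    rw [hp₀def, Category.assoc, pullback.condition, ← Category.assoc]
    exact (congrArg (· ≫ f) pullback.condition).trans (Category.assoc _ _ _)
  let pt : ∀ (w : Spec (CommRingCat.of Ω) ⟶ C), w ≫ f = σ ≫ f → (Spec (CommRingCat.of Ω) ⟶ pullback g σ) :=
    fun w hw => pullback.lift (pullback.lift w σ hw) (𝟙 _) ((pullback.lift_snd _ _ _).trans (Category.id_comp _).symm)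
  have hpt : ∀ w hw, pt w hw ≫ q = 𝟙 _ := fun w hw => pullback.lift_snd _ _ _
  have hpt₀ : ∀ w hw, pt w hw ≫ p₀ = w := fun w hw => by
    rw [hp₀def]
    erw [pullback.lift_fst_assoc, pullback.lift_fst]
  let m : Pic13.prodK Ω (pullback g σ) q ⟶ PicF.XT f (Over.mk f) :=
    pullback.lift (pullback.fst q q ≫ p₀) (pullback.snd q q ≫ p₀) (by
      show (pullback.fst q q ≫ p₀) ≫ f = (pullback.snd q q ≫ p₀) ≫ f
      rw [Category.assoc, Category.assoc, hp₀, pullback.condition_assoc])
  have hslice : ∀ w hw, Pic13.sliceAt Ω (pullback g σ) q (pt w hw) (hpt w hw) ≫ m =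
      pullback.lift p₀ (q ≫ w) (by show p₀ ≫ f = (q ≫ w) ≫ f; rw [hp₀, Category.assoc, hw]) := fun w hw => by
    apply pullback.hom_ext
    · rw [Category.assoc, pullback.lift_fst, pullback.lift_fst, ← Category.assoc, Pic13.sliceAt]
      erw [pullback.lift_fst, Category.id_comp]
    · rw [Category.assoc, pullback.lift_snd, pullback.lift_snd, ← Category.assoc, Pic13.sliceAt]
      erw [pullback.lift_snd, Category.assoc, hpt₀]
      rfl
  have hw₁ : σ ≫ f = σ ≫ f := rfl
  have hw₀ : (σ ≫ f ≫ e) ≫ f = σ ≫ f := by simp [he]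
  refine ⟨pullback g σ, q, ?_, inferInstance, hqc, (Scheme.Modules.pullback m).obj (dUniv e LΔ),
    AmpleDevLib.isInvertible_pb _ (HilbPolyLib.isInvertible_tensor hLΔ
      (AmpleDevLib.isInvertible_pb _ (IntMultLib.isInvertible_idealMod _ (hf.isEffCartier e he)))),
    pt σ hw₁, pt _ hw₀, hpt _ _, hpt _ _, ?_, ?_⟩
  · haveI : Subsingleton ↥(Spec (CommRingCat.of Ω)) := inferInstanceAs (Subsingleton (PrimeSpectrum Ω))
    haveI : GeometricallyConnected q := MorphismProperty.pullback_snd (P := @GeometricallyConnected) _ _ inferInstance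
    haveI : Nonempty ↥(pullback g σ) := ⟨(pt σ hw₁) (IsLocalRing.closedPoint Ω)⟩
    exact GeometricallyConnected.connectedSpace_of_subsingleton q
  · refine cl_eq_iff.1 (show pull (Pic13.sliceAt Ω _ q (pt σ hw₁) (hpt σ hw₁)) (pull m (cl (dUniv e LΔ))) =
      pull (pullback.fst g σ) (cl (dUniv e LΔ)) from ?_)
    rw [pull_comp, hslice]
    congr 2
    apply pullback.hom_ext
    · exact (pullback.lift_fst _ _ _).trans hp₀def
    · rw [pullback.lift_snd]
      exact pullback.condition.symm
  · refine cl_eq_one_iff.1 (show pull (Pic13.sliceAt Ω _ q (pt _ hw₀) (hpt _ hw₀)) (pull m (cl (dUniv e LΔ))) = 1 from ?_)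
    rw [pull_comp, hslice, show pullback.lift p₀ (q ≫ σ ≫ f ≫ e) (by show p₀ ≫ f = (q ≫ σ ≫ f ≫ e) ≫ f; rw [hp₀]; simp [he]) =
        pullback.fst g σ ≫ PicF.XTmap f (origin e he (Over.mk f)) from ?_, ← pull_comp]
    · show pull _ (dCls e LΔ (origin e he (Over.mk f))) = 1
      rw [dCls_origin hf e he LΔ hΔ, map_one]
    apply pullback.hom_ext
    · rw [pullback.lift_fst, Category.assoc]
      exact hp₀def.trans (congrArg (pullback.fst g σ ≫ ·)
        ((pullback.lift_fst _ _ _).trans (Category.comp_id _)).symm)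
    · rw [pullback.lift_snd, Category.assoc]
      show q ≫ σ ≫ f ≫ e = pullback.fst g σ ≫ PicF.XTmap f (origin e he (Over.mk f)) ≫ PicF.XTproj f (Over.mk f)
      rw [PicGrp.XTmap_XTproj]
      exact (pullback.condition_assoc (f ≫ e)).symm

include hf in
theorem fibDeg_of_picZero {T : Over S} {L : (PicF.XT f T).Modules} (hL : PicF.IsInvertible L)
    (h : ∀ t : T.left, AbDual.IsAlgTrivialAt (PicF.XTproj f T) L t) : FibDeg (PicF.XTproj f T) L 0 := by
  intro t
  have hg := hf.baseChange T
  haveI := hg.proper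
  letI : ((PicF.XTproj f T).fiber t).Over (Spec (CommRingCat.of (T.left.residueField t))) :=
    ⟨(PicF.XTproj f T).fiberToSpecResidueField t⟩
  haveI : IsProper (((PicF.XTproj f T).fiber t) ↘ Spec (CommRingCat.of (T.left.residueField t))) :=
    MorphismProperty.pullback_snd (P := @IsProper) _ _ hg.proper
  have hd : topologicalKrullDim ↥((PicF.XTproj f T).fiber t) ≤ ((1 : ℕ) : WithBot ℕ∞) := (hg.dim t).le
  have h1 := AlgEquivLib.eulerCharLE_eq_of_isAlgTrivialAt (PicF.XTproj f T) hL t (h t) hd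
  have h2 : FGA.eulerCharLE (T.left.residueField t) ((PicF.XTproj f T).fiber t)
      (CohIII.fiberMod (PicF.XTproj f T) L t) 1 =
      FGA.eulerCharLE (T.left.residueField t) ((PicF.XTproj f T).fiber t) (Coh.structureModule _) 1 := h1
  rw [HilbPolyLib.eulerCharLE_eq hd, HilbPolyLib.eulerCharLE_eq hd] at h2
  rw [Curv2.deg, h2]
  simp

include hf hΔ he in
/-- Every class in `Pic⁰` comes from a point, up to the base. -/
theorem exists_dCls {T : Over S} {c : PicF.Cl (PicF.XT f T)} (hc : AbDual.IsPicZeroCl f T c) :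
    ∃ (L : (PicF.XT f T).Modules) (u : T ⟶ Over.mk f) (M : T.left.Modules), PicF.cl L = c ∧ PicF.IsInvertible L ∧
      PicF.IsInvertible M ∧ cl L = dCls e LΔ u * pull (PicF.XTproj f T) (cl M) := by
  obtain ⟨L, hLc, hL, hLt⟩ := hc
  obtain ⟨b, hb, hbd⟩ := HasDeg.exists_inv (hf.baseChange T) ⟨L, hL, rfl, fibDeg_of_picZero hf hL hLt⟩
  have hd := (hf.hasDeg_ptCls (origin e he T)).mul (hf.baseChange T) hbd
  obtain ⟨u, N, hN, hu⟩ := exists_pt hf (c := ptCls (origin e he T) * b) (by simpa using hd)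
  obtain ⟨M, hM, hNM⟩ := exists_inv_rep hN
  refine ⟨L, u, M, hLc, hL, hM, (hf.isUnit_ptCls u).mul_left_injective ?_⟩
  simp only
  have h1 : pull (PicF.XTproj f T) (cl N) * pull (PicF.XTproj f T) (cl M) = 1 := by rw [← map_mul, hNM, map_one]
  calc cl L * ptCls u = cl L * (ptCls u * pull (PicF.XTproj f T) (cl N)) * pull (PicF.XTproj f T) (cl M) := by
        rw [mul_assoc (cl L), mul_assoc (ptCls u), h1, mul_one]
    _ = (cl L * b) * ptCls (origin e he T) * pull (PicF.XTproj f T) (cl M) := by rw [← hu]; ac_rfl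
    _ = dCls e LΔ u * pull (PicF.XTproj f T) (cl M) * ptCls u := by
        rw [hb, one_mul, ← dCls_spec hf e he LΔ hΔ u]; ac_rfl

end EllLawLib

end
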